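import Groth.Prelude.Def_PP16

/-!
# Principal parts along a section
-/

set_option autoImplicit false
set_option maxHeartbeats 400000
universe u

open scoped TensorProduct

noncomputable section

namespace Groth.Agent.PPSec29

variable {R S : Type u} [CommRing R] [CommRing S] [Algebra R S] {n : ℕ}

/-- The differential of a function. -/
def D (n : ℕ) (s : S) : PP16.P n R S := PP16.dn n R S s - algebraMap S (PP16.P n R S) s

theorem D_eq (s : S) : D (R := R) n s = Ideal.Quotient.mk _ ((1 : S) ⊗ₜ[R] s - s ⊗ₜ[R] (1 : S)) := rfl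

theorem D_mem (s : S) : D (R := R) n s ∈ PP16.augIdeal n R S :=
  Ideal.mem_map_of_mem _ (KaehlerDifferential.one_smul_sub_smul_one_mem_ideal R s)

theorem aug_pow : PP16.augIdeal n R S ^ (n + 1) = ⊥ := by
  rw [PP16.augIdeal, ← Ideal.map_pow, Ideal.map_quotient_self]

theorem D_mul (x s : S) : D (R := R) n (x * s) =
    algebraMap S (PP16.P n R S) x * D n s + D n x * algebraMap S (PP16.P n R S) s + D n x * D n s := by
  simp only [D, map_mul]; ring

/-- The product ideal. -/
def K (I : Ideal S) (n : ℕ) : Ideal (PP16.P n R S) := I.map (algebraMap S (PP16.P n R S)) * PP16.augIdeal n R S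

theorem D_pow_mem (I : Ideal S) : ∀ m : ℕ, ∀ s ∈ I ^ (m + 1), D (R := R) n s ∈ K I n ⊔ PP16.augIdeal n R S ^ (m + 1) := by
  intro m
  induction m with
  | zero =>
    intro s _
    refine Submodule.mem_sup_right ?_
    show D (R := R) n s ∈ PP16.augIdeal n R S ^ 0 * PP16.augIdeal n R S
    simpa [Submodule.pow_zero, Ideal.one_eq_top] using D_mem (R := R) (n := n) s
  | succ m ih =>
    intro s hs
    rw [pow_succ'] at hs
    refine Submodule.mul_induction_on hs (fun x hx y hy => ?_) fun a b ha hb => ?_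
    · rw [D_mul]
      have hyI : y ∈ I := Ideal.pow_le_self (Nat.succ_ne_zero m) hy
      refine add_mem (add_mem (Submodule.mem_sup_left (Ideal.mul_mem_mul (Ideal.mem_map_of_mem _ hx) (D_mem y)))
        (Submodule.mem_sup_left ?_)) ?_
      · rw [mul_comm]; exact Ideal.mul_mem_mul (Ideal.mem_map_of_mem _ hyI) (D_mem x)
      · obtain ⟨u, hu, v, hv, e⟩ := Submodule.mem_sup.1 (ih y hy)
        rw [← e, mul_add]
        exact add_mem (Submodule.mem_sup_left (Ideal.mul_mem_left _ _ hu))
          (Submodule.mem_sup_right (by rw [mul_comm (D n x) v]; exact Ideal.mul_mem_mul hv (D_mem x)))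
    · rw [show D (R := R) n (a + b) = D n a + D n b by simp only [D, map_add]; ring]
      exact add_mem ha hb

theorem K_le_smul (I : Ideal S) {z : PP16.P n R S} (hz : z ∈ K I n) :
    z ∈ I • (PP16.augIdeal n R S).restrictScalars S := by
  refine Submodule.mul_induction_on hz (fun a ha b hb => ?_) fun a b ha hb => add_mem ha hb
  induction ha using Submodule.span_induction generalizing b with
  | mem x hx =>
    obtain ⟨s, hs, rfl⟩ := hx
    rw [← Algebra.smul_def]
    exact Submodule.smul_mem_smul hs hb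
  | zero => rw [zero_mul]; exact zero_mem _
  | add x y _ _ hx hy => rw [add_mul]; exact add_mem (hx b hb) (hy b hb)
  | smul c x _ hx =>
    rw [smul_eq_mul, mul_comm c, mul_assoc]
    exact hx _ (Ideal.mul_mem_left _ c hb)

/-- Reduction along a retraction. -/
def red (σ : S →ₐ[R] R) : S ⊗[R] S →ₐ[R] S :=
  Algebra.TensorProduct.lift ((Algebra.ofId R S).comp σ) (AlgHom.id R S) fun _ _ => Commute.all _ _

theorem red_tmul (σ : S →ₐ[R] R) (a b : S) : red σ (a ⊗ₜ[R] b) = algebraMap R S (σ a) * b := by simp [red]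

theorem map_red_le (σ : S →ₐ[R] R) :
    (KaehlerDifferential.ideal R S).map (red σ) ≤ RingHom.ker σ.toRingHom := by
  rw [← KaehlerDifferential.span_range_eq_ideal, Ideal.map_span, Ideal.span_le]
  rintro _ ⟨_, ⟨s, rfl⟩, rfl⟩
  show σ _ = 0
  simp [red_tmul]

theorem mem_pow_of_D_mem (σ : S →ₐ[R] R) {s : S} (hs : σ s = 0)
    (h : D (R := R) n s ∈ RingHom.ker σ.toRingHom • (PP16.augIdeal n R S).restrictScalars S) :
    s ∈ RingHom.ker σ.toRingHom ^ (n + 1) := by
  set I := RingHom.ker σ.toRingHom
  let Φ : PP16.P n R S →+* S ⧸ I ^ (n + 1) := Ideal.Quotient.lift _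
    ((Ideal.Quotient.mk (I ^ (n + 1))).comp (red σ).toRingHom) fun z hz => by
      rw [RingHom.comp_apply, Ideal.Quotient.eq_zero_iff_mem]
      refine Ideal.pow_right_mono (map_red_le σ) (n + 1) ?_
      rw [← Ideal.map_pow]
      exact Ideal.mem_map_of_mem _ hz
  have hz : Φ (D n s) = 0 := by
    refine Submodule.smul_induction_on h (fun i hi t _ => ?_) fun a b ha hb => by rw [map_add, ha, hb, add_zero]
    rw [Algebra.smul_def, map_mul, show Φ (algebraMap S (PP16.P n R S) i) = 0 from ?_, zero_mul]
    show Ideal.Quotient.mk (I ^ (n + 1)) (red σ (i ⊗ₜ[R] (1 : S))) = 0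
    rw [red_tmul, show σ i = 0 from hi]; simp
  rw [D_eq] at hz
  have : Ideal.Quotient.mk (I ^ (n + 1)) (red σ ((1 : S) ⊗ₜ[R] s - s ⊗ₜ[R] (1 : S))) = 0 := hz
  rw [map_sub, red_tmul, red_tmul, hs] at this
  simpa [Ideal.Quotient.eq_zero_iff_mem] using this

variable {T : Type u} [CommRing T] [Algebra R T] [Algebra T S] [IsScalarTower R T S]

theorem map_D (b : T) : PP16.map n R T R S (D n b) = D n (algebraMap T S b) := by
  rw [D, D, map_sub, PP16.map_dn, PP16.map_algebraMap]

theorem kernel_vanishes_iff (σ : S →ₐ[R] R) :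
    (∀ y ∈ PP16.augIdeal n R T, PP16.map n R T R S y ∈
      RingHom.ker σ.toRingHom • (PP16.augIdeal n R S).restrictScalars S) ↔
      (∀ b : T, algebraMap T S b ∈ RingHom.ker σ.toRingHom →
        algebraMap T S b ∈ RingHom.ker σ.toRingHom ^ (n + 1)) := by
  constructor
  · intro h b hb
    refine mem_pow_of_D_mem σ hb ?_
    rw [← map_D]
    exact h _ (D_mem b)
  · intro h y hy
    refine K_le_smul _ ?_
    suffices H : PP16.augIdeal n R T ≤ (K (R := R) (RingHom.ker σ.toRingHom) n).comap (PP16.map n R T R S) from H hy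
    rw [PP16.augIdeal, Ideal.map_le_iff_le_comap]
    refine le_of_eq_of_le (KaehlerDifferential.span_range_eq_ideal R T).symm ?_
    rw [Ideal.span_le]
    rintro _ ⟨b, rfl⟩
    show PP16.map n R T R S (D n b) ∈ K (R := R) (RingHom.ker σ.toRingHom) n
    rw [map_D]
    set c := algebraMap T S b
    have hr : ∀ r : R, D (R := R) n (algebraMap R S r) = 0 := fun r => by
      have h2 : algebraMap R (PP16.P n R S) r = algebraMap S (PP16.P n R S) (algebraMap R S r) :=
        IsScalarTower.algebraMap_apply R S (PP16.P n R S) r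
      rw [D, AlgHom.commutes, ← h2, sub_self]
    have hc : c - algebraMap R S (σ c) ∈ RingHom.ker σ.toRingHom ^ (n + 1) := by
      have := h (b - algebraMap R T (σ c)) (by
        show σ _ = 0
        rw [map_sub, map_sub, ← IsScalarTower.algebraMap_apply, AlgHom.commutes]; simp [c])
      rwa [map_sub, ← IsScalarTower.algebraMap_apply] at this
    have h3 := D_pow_mem (R := R) (n := n) _ n _ hc
    rw [aug_pow, sup_bot_eq, show D (R := R) n (c - algebraMap R S (σ c)) = D n c - D n (algebraMap R S (σ c)) by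
      simp only [D, map_sub]; ring, hr, sub_zero] at h3
    exact h3

end Groth.Agent.PPSec29
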